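import Mathlib.RingTheory.Henselian
import Mathlib.RingTheory.IntegralClosure.IntegrallyClosed
import Mathlib.FieldTheory.IsSepClosed
import Mathlib.FieldTheory.IsAlgClosed.AlgebraicClosure
import Mathlib.FieldTheory.Perfect
import Mathlib.FieldTheory.Minpoly.IsIntegrallyClosed
import Mathlib.RingTheory.Ideal.GoingUp
import Mathlib.RingTheory.LocalRing.ResidueField.Basic

/-!
Normal local domains with separably closed fraction field are strictly henselian, with algebraically
closed residue field when they are not fields.
-/

universe u v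

namespace Groth.Agent.SepClosedNormal

open IsLocalRing Polynomial

variable (A : Type u) [CommRing A] [IsDomain A] [IsIntegrallyClosed A]
  (K : Type u) [Field K] [Algebra A K] [IsFractionRing A K] [IsSepClosed K]

/-- A simple root, in an extension field, of a monic polynomial over `A` lies in `A`. -/
theorem exists_of_simple_root (Ω : Type u) [Field Ω] [Algebra K Ω] [Algebra A Ω] [IsScalarTower A K Ω]
    (f : A[X]) (hf : f.Monic) (b : Ω) (hb : aeval b f = 0) (hb' : aeval b f.derivative ≠ 0) :
    ∃ a : A, algebraMap A Ω a = b := by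
  have hint : IsIntegral K b := ⟨f.map (algebraMap A K), hf.map _, by
    rw [← aeval_def, aeval_map_algebraMap]; exact hb⟩
  obtain ⟨g, hg⟩ := minpoly.dvd K b (p := f.map (algebraMap A K)) (by rw [aeval_map_algebraMap]; exact hb)
  have hsep : (minpoly K b).Separable := by
    rw [Polynomial.separable_iff_derivative_ne_zero (minpoly.irreducible hint)]
    intro h0
    apply hb'
    have : aeval b (f.map (algebraMap A K)).derivative = 0 := by
      rw [hg, derivative_mul, h0, zero_mul, zero_add, map_mul, minpoly.aeval, zero_mul]
    rwa [derivative_map, aeval_map_algebraMap] at this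
  obtain ⟨x, hx⟩ := IsSepClosed.exists_root (minpoly K b) (minpoly.degree_pos hint).ne' hsep
  have hdeg : (minpoly K b).natDegree = 1 :=
    natDegree_eq_of_degree_eq_some (degree_eq_one_of_irreducible_of_root (minpoly.irreducible hint) hx)
  obtain ⟨x, hxb⟩ := minpoly.natDegree_eq_one_iff.mp hdeg
  obtain ⟨a, ha⟩ := IsIntegrallyClosed.isIntegral_iff.mp (show IsIntegral A x from
    ⟨f, hf, (algebraMap K Ω).injective (by
      rw [map_zero, ← aeval_def, ← aeval_algebraMap_apply, hxb]; exact hb)⟩)
  exact ⟨a, by rw [IsScalarTower.algebraMap_apply A K Ω, ha, hxb]⟩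

variable [IsLocalRing A]

/-- A simple root modulo a maximal ideal of the absolute integral closure. -/
theorem exists_root_of_residue (f : A[X]) (hf : f.Monic)
    (P : (integralClosure A (AlgebraicClosure K)) → Prop)
    (hP : ∀ b, P b → aeval (b : AlgebraicClosure K) f = 0)
    (hex : ∃ b, P b ∧ aeval (b : AlgebraicClosure K) f.derivative ≠ 0) :
    ∃ a : A, f.IsRoot a ∧ P (algebraMap A _ a) := by
  obtain ⟨b, hb, hb'⟩ := hex
  obtain ⟨a, ha⟩ := exists_of_simple_root A K (AlgebraicClosure K) f hf b (hP b hb) hb'
  have hab : algebraMap A (integralClosure A (AlgebraicClosure K)) a = b := Subtype.ext ha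
  refine ⟨a, ?_, hab ▸ hb⟩
  have h := hP b hb
  rw [← ha, aeval_algebraMap_apply] at h
  have hinj : Function.Injective (algebraMap A (AlgebraicClosure K)) := by
    rw [IsScalarTower.algebraMap_eq A K]
    exact (algebraMap K _).injective.comp (IsFractionRing.injective A K)
  have h2 : aeval a f = 0 := hinj (h.trans (map_zero _).symm)
  rwa [IsRoot, ← coe_aeval_eq_eval]

include K in
theorem henselianLocalRing : HenselianLocalRing A := by
  constructor
  intro f hf a₀ h₁ h₂
  let Ω := AlgebraicClosure K
  let B := integralClosure A Ω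
  obtain ⟨M, hM, hMc⟩ : ∃ M : Ideal B, M.IsMaximal ∧ M.comap (algebraMap A B) = maximalIdeal A := by
    have hker : RingHom.ker (algebraMap A B) = ⊥ := by
      rw [← RingHom.injective_iff_ker_eq_bot]
      intro x y h
      have h' := congrArg (fun z : B => (z : Ω)) h
      have hinj : Function.Injective (algebraMap A Ω) := by
        rw [IsScalarTower.algebraMap_eq A K]
        exact (algebraMap K _).injective.comp (IsFractionRing.injective A K)
      exact hinj h'
    exact Ideal.exists_ideal_over_maximal_of_isIntegral (maximalIdeal A) (by rw [hker]; exact bot_le)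
  have hsplit : ((f.map (algebraMap A Ω))).Splits := IsAlgClosed.splits _
  have hprod := hsplit.eq_prod_roots_of_monic (hf.map _)
  have hmem : ∀ r ∈ (f.map (algebraMap A Ω)).roots, IsIntegral A r := fun r hr => by
    rw [mem_roots (hf.map _).ne_zero, IsRoot, eval_map, ← aeval_def] at hr
    exact ⟨f, hf, hr⟩
  let rs : Multiset B := (f.map (algebraMap A Ω)).roots.pmap (fun r hr => ⟨r, hr⟩) hmem
  have hev : algebraMap A B (f.eval a₀) = (rs.map fun r => algebraMap A B a₀ - r).prod := by
    apply Subtype.val_injective
    show algebraMap A Ω (f.eval a₀) = B.val _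
    have hrs : rs.map (fun r : B => (r : Ω)) = (f.map (algebraMap A Ω)).roots := by
      simp only [rs, Multiset.map_pmap]
      exact Multiset.pmap_eq_map _ _ _ _ |>.trans (Multiset.map_id _)
    rw [map_multiset_prod, Multiset.map_map]
    conv_lhs => rw [← eval_map_apply, hprod, eval_multiset_prod, Multiset.map_map, ← hrs, Multiset.map_map]
    simp [Function.comp_def]
  have hzero : (rs.map fun r => algebraMap A B a₀ - r).prod ∈ M := by
    rw [← hev]
    rw [← hMc] at h₁
    exact h₁
  obtain ⟨r, hr, hrM⟩ : ∃ r, r ∈ rs ∧ algebraMap A B a₀ - r ∈ M := by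
    obtain ⟨x, hx, hxM⟩ := (hM.isPrime.multiset_prod_mem_iff_exists_mem _).mp hzero
    obtain ⟨r, hr, rfl⟩ := Multiset.mem_map.mp hx
    exact ⟨r, hr, hxM⟩
  obtain ⟨a, ha, -, ha'⟩ := exists_root_of_residue A K f hf
    (fun b => aeval (b : Ω) f = 0 ∧ algebraMap A B a₀ - b ∈ M) (fun b hb => hb.1) ⟨r, ⟨by
      obtain ⟨x, hx, rfl⟩ := Multiset.mem_pmap.mp hr
      rw [mem_roots (hf.map _).ne_zero, IsRoot, eval_map, ← aeval_def] at hx
      exact hx, hrM⟩, fun h0 => by
      have h3 : aeval r f.derivative = 0 := Subtype.ext (by
        show B.val (aeval r f.derivative) = _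
        rw [← aeval_algHom_apply]; exact h0)
      have h4 := map_dvd (algebraMap A B) h₂.dvd (b := 1)
      have h5 : aeval (algebraMap A B a₀) f.derivative - aeval r f.derivative ∈ M := by
        rw [aeval_def, aeval_def, ← eval_map, ← eval_map]
        exact Ideal.mem_of_dvd _ (sub_dvd_eval_sub _ _ _) hrM
      rw [h3, sub_zero, aeval_algebraMap_apply, coe_aeval_eq_eval] at h5
      exact hM.ne_top (Ideal.eq_top_of_isUnit_mem _ h5 (h₂.map _))⟩
  refine ⟨a, ha, ?_⟩
  rw [← hMc, Ideal.mem_comap, map_sub, ← neg_sub]
  exact M.neg_mem ha'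

include K in
theorem isSepClosed_residueField : IsSepClosed (ResidueField A) := by
  refine IsSepClosed.of_exists_root _ fun g hg hirr hsep => ?_
  let Ω := AlgebraicClosure K
  let B := integralClosure A Ω
  obtain ⟨f, hfg, hfd, hf⟩ := lifts_and_natDegree_eq_and_monic
    ((mem_lifts g).mpr (Polynomial.map_surjective _ residue_surjective g)) hg
  have hinj : Function.Injective (algebraMap A Ω) := by
    rw [IsScalarTower.algebraMap_eq A K]
    exact (algebraMap K _).injective.comp (IsFractionRing.injective A K)
  obtain ⟨M, hM, hMc⟩ : ∃ M : Ideal B, M.IsMaximal ∧ M.comap (algebraMap A B) = maximalIdeal A := by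
    have hker : RingHom.ker (algebraMap A B) = ⊥ := by
      rw [← RingHom.injective_iff_ker_eq_bot]
      exact fun x y h => hinj (congrArg (fun z : B => (z : Ω)) h)
    exact Ideal.exists_ideal_over_maximal_of_isIntegral (maximalIdeal A) (by rw [hker]; exact bot_le)
  obtain ⟨x, hx⟩ := IsAlgClosed.exists_root (f.map (algebraMap A Ω)) (by
    rw [degree_map_eq_of_injective hinj, degree_eq_natDegree hf.ne_zero, hfd]
    exact_mod_cast hirr.natDegree_pos.ne')
  rw [IsRoot, eval_map, ← aeval_def] at hx
  let b : B := ⟨x, f, hf, hx⟩
  have hbf : aeval b f = 0 := Subtype.ext (by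
    show B.val (aeval b f) = _
    rw [← aeval_algHom_apply]; exact hx)
  obtain ⟨s, t, hst⟩ := hsep
  obtain ⟨s', rfl⟩ := Polynomial.map_surjective _ residue_surjective s
  obtain ⟨t', rfl⟩ := Polynomial.map_surjective _ residue_surjective t
  have hder : aeval x f.derivative ≠ 0 := by
    intro h0
    have h3 : aeval b f.derivative = 0 := Subtype.ext (by
      show B.val (aeval b f.derivative) = _
      rw [← aeval_algHom_apply]; exact h0)
    have hc : ∀ i, (s' * f + t' * f.derivative - 1).coeff i ∈ maximalIdeal A := by
      intro i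
      rw [← residue_eq_zero_iff, ← coeff_map, Polynomial.map_sub, Polynomial.map_add, Polynomial.map_mul,
        Polynomial.map_mul, ← derivative_map, hfg, hst, Polynomial.map_one, sub_self, coeff_zero]
    have h4 : aeval b (s' * f + t' * f.derivative - 1) ∈ M := by
      rw [aeval_eq_sum_range]
      refine M.sum_mem fun i _ => ?_
      rw [Algebra.smul_def]
      have := hc i
      rw [← hMc] at this
      exact M.mul_mem_right _ this
    rw [map_sub, map_add, map_mul, map_mul, hbf, h3, mul_zero, mul_zero, add_zero, map_one, zero_sub, neg_mem_iff] at h4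
    exact hM.ne_top ((Ideal.eq_top_iff_one _).mpr h4)
  obtain ⟨a, ha, -⟩ := exists_root_of_residue A K f hf (fun c => aeval (c : Ω) f = 0) (fun c hc => hc) ⟨b, hx, hder⟩
  exact ⟨residue A a, by rw [← hfg, eval_map_apply, ha, map_zero]⟩

include K in
theorem isAlgClosed_residueField (h : maximalIdeal A ≠ ⊥) : IsAlgClosed (ResidueField A) := by
  haveI := isSepClosed_residueField A K
  obtain ⟨q, hq⟩ := CharP.exists (ResidueField A)
  rcases CharP.char_is_prime_or_zero (ResidueField A) q with hp | rfl
  · haveI : Fact q.Prime := ⟨hp⟩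
    haveI : PerfectRing (ResidueField A) q := by
      refine PerfectRing.ofSurjective _ q fun y => ?_
      obtain ⟨x, rfl⟩ := residue_surjective y
      obtain ⟨π, hπm, hπ⟩ := Submodule.exists_mem_ne_zero_of_ne_bot h
      have hpm : (q : A) ∈ maximalIdeal A := by
        rw [← residue_eq_zero_iff, map_natCast, CharP.cast_eq_zero]
      let f : K[X] := X ^ q + (C (algebraMap A K π) * X - C (algebraMap A K x))
      have hdeg : (C (algebraMap A K π) * X - C (algebraMap A K x)).degree < (q : WithBot ℕ) :=
        lt_of_le_of_lt (degree_sub_le _ _) (max_lt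
          (lt_of_le_of_lt (degree_C_mul_X_le _) (by exact_mod_cast hp.one_lt))
          (lt_of_le_of_lt degree_C_le (by exact_mod_cast hp.pos)))
      have hfd : f.degree = q := by
        rw [show f = X ^ q + _ from rfl, degree_add_eq_left_of_degree_lt (by rwa [degree_X_pow]), degree_X_pow]
      obtain ⟨r, hr⟩ : ∃ r : K, f.IsRoot r := by
        obtain ⟨c, hc⟩ := CharP.exists K
        rcases CharP.char_is_prime_or_zero K c with hcp | rfl
        · haveI : Fact c.Prime := ⟨hcp⟩
          obtain rfl : q = c := by
            haveI : CharP A c := (RingHom.charP_iff (algebraMap A K) (IsFractionRing.injective A K) c).mpr hc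
            have h1 : ((c : ℕ) : ResidueField A) = 0 := by rw [← map_natCast (residue A), CharP.cast_eq_zero, map_zero]
            exact ((Nat.prime_dvd_prime_iff_eq hp hcp).mp ((CharP.cast_eq_zero_iff (ResidueField A) q c).mp h1))
          refine IsSepClosed.exists_root f (by rw [hfd]; exact_mod_cast hp.ne_zero) (separable_def _ |>.mpr ?_)
          have hd : f.derivative = C (algebraMap A K π) := by
            simp [f, derivative_X_pow, CharP.cast_eq_zero]
          rw [hd]
          exact (isCoprime_comm).mp (IsCoprime.of_isCoprime_of_dvd_left (isCoprime_one_left) <|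
            (isUnit_C.mpr (IsUnit.mk0 _ fun h0 => hπ (IsFractionRing.injective A K (h0.trans (map_zero _).symm)))).dvd)
        · haveI : CharZero K := CharP.charP_to_charZero K
          haveI : IsAlgClosed K := inferInstance
          exact IsAlgClosed.exists_root f (by rw [hfd]; exact_mod_cast hp.ne_zero)
      have hint : IsIntegral A r := ⟨X ^ q + (C π * X - C x), monic_X_pow_add (by
          refine lt_of_le_of_lt (degree_sub_le _ _) (max_lt
            (lt_of_le_of_lt (degree_C_mul_X_le _) (by exact_mod_cast hp.one_lt))
            (lt_of_le_of_lt degree_C_le (by exact_mod_cast hp.pos)))), by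
        have := hr
        simpa [f, IsRoot] using this⟩
      obtain ⟨a, rfl⟩ := IsIntegrallyClosed.isIntegral_iff.mp hint
      refine ⟨residue A a, ?_⟩
      have h1 : a ^ q + (π * a - x) = 0 := IsFractionRing.injective A K (by simpa [f, IsRoot] using hr)
      show residue A a ^ q = residue A x
      rw [← map_pow, ← sub_eq_zero, ← map_sub, residue_eq_zero_iff,
        show a ^ q - x = -(π * a) by linear_combination h1]
      exact neg_mem (Ideal.mul_mem_right _ _ hπm)
    haveI : PerfectField (ResidueField A) := PerfectRing.toPerfectField _ q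
    infer_instance
  · haveI : CharZero (ResidueField A) := CharP.charP_to_charZero _
    infer_instance

end Groth.Agent.SepClosedNormal
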